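import Mathlib
import Groth.Agent.Lib.Helper2.FibDim.QfCodimOne
import Groth.Agent.Lib.Helper4.BirationalNormal1

set_option linter.style.haveILetI false
set_option linter.unusedVariables false
set_option linter.unusedSectionVars false
set_option autoImplicit false
set_option backward.isDefEq.respectTransparency.types false

universe u

/-! helper7: a proper birational morphism of integral schemes with O_Y = f_* O_X is an isomorphism outside a closed subset of codimension at least two of a locally Noetherian target -/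

namespace Groth.Agent.Helper7.BirCodim

open CategoryTheory AlgebraicGeometry

/-- an affine morphism which is bijective on sections over all opens is an isomorphism -/
theorem isIso_of_app_bijective {X Y : Scheme.{u}} (f : Y ⟶ X) [IsAffineHom f]
    (h : ∀ V : X.Opens, Function.Bijective (f.app V)) : IsIso f := by
  rw [← MorphismProperty.isomorphisms.iff,
    HasAffineProperty.iff_of_iSup_eq_top (P := MorphismProperty.isomorphisms Scheme)
      (fun i : X.affineOpens => i) (iSup_affineOpens_eq_top X)]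
  intro V
  refine ⟨IsAffineHom.isAffine_preimage _ V.2, ?_⟩
  rw [morphismRestrict_appTop]
  have h1 : IsIso (f.app ((V : X.Opens).ι ''ᵁ ⊤)) :=
    (ConcreteCategory.isIso_iff_bijective _).2 (h _)
  have h2 : IsIso (Y.presheaf.map
      (eqToHom (image_morphismRestrict_preimage f (V : X.Opens) ⊤)).op) := inferInstance
  exact @IsIso.comp_isIso _ _ _ _ _ _ _ h1 h2

/-- a proper morphism quasi-finite at all points over `y` is finite over a neighbourhood of `y` -/
theorem exists_isFinite_morphismRestrict_of_quasiFiniteAt {X Y : Scheme.{u}} (f : X ⟶ Y)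
    [IsProper f] (y : Y) (hqf : ∀ x, f x = y → f.QuasiFiniteAt x) :
    ∃ V : Y.Opens, y ∈ V ∧ IsFinite (f ∣_ V) := by
  let V : Y.Opens := ⟨_, (f.isClosedMap _ f.quasiFiniteLocus.isOpen.isClosed_compl).isOpen_compl⟩
  refine ⟨V, ?_, ?_⟩
  · simpa [V, not_imp_not] using hqf
  · suffices LocallyQuasiFinite (f ∣_ V) from .of_isProper_of_locallyQuasiFinite _
    rw [← Scheme.Hom.quasiFiniteLocus_eq_top_iff]
    ext x
    have : f.QuasiFiniteAt ((f ⁻¹ᵁ V).ι x) := by by_contra H; exact x.2 ⟨_, H, by simp⟩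
    rw [← Scheme.Hom.quasiFiniteAt_comp_iff_of_isOpenImmersion, ← morphismRestrict_ι,
      Scheme.Hom.quasiFiniteAt_comp_iff] at this
    simpa

/-- a proper birational morphism of integral schemes with `O_Y = f_* O_X` is an isomorphism near
every point of codimension at most one of a locally Noetherian target -/
theorem exists_nhd_isIso_of_codim_le_one {X Y : Scheme.{u}} [IsIntegral X] [IsIntegral Y]
    [IsLocallyNoetherian Y] (f : X ⟶ Y) [IsProper f]
    (hbir : ∃ U : Y.Opens, (U : Set Y).Nonempty ∧ IsIso (f ∣_ U))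
    (hO : ∀ U : Y.Opens, Function.Bijective (f.app U)) (y : Y)
    (hdim : ringKrullDim (Y.presheaf.stalk y) ≤ 1) :
    ∃ W : Y.Opens, y ∈ W ∧ IsIso (f ∣_ W) := by
  obtain ⟨U, ⟨u, hu⟩, hUiso⟩ := hbir
  have hqf : ∀ x, f x = y → f.QuasiFiniteAt x := by
    intro x hx
    subst hx
    apply Groth.Agent.Helper2.FibDim.quasiFiniteAt_of_codim_le_one f x hdim
    intro ξ hξ _
    apply Groth.Agent.Helper2.FibDim.resTrdeg_eq_zero_of_quasiFiniteAt
    have hcl : closure ({ξ} : Set X) = Set.univ := by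
      rw [irreducibleComponents_eq_singleton] at hξ
      exact hξ
    obtain ⟨x', hx'⟩ : ∃ x' : X, x' ∈ (f ⁻¹ᵁ U : X.Opens) := by
      haveI := hUiso
      obtain ⟨z, hz⟩ := (f ∣_ U).surjective ⟨u, hu⟩
      exact ⟨z.1, z.2⟩
    have hξU : ξ ∈ (f ⁻¹ᵁ U : X.Opens) := by
      have hgen : IsGenericPoint ξ (Set.univ : Set X) := hcl
      exact (hgen.mem_open_set_iff (f ⁻¹ᵁ U).2).mpr ⟨x', Set.mem_univ _, hx'⟩
    haveI : IsOpenImmersion ((f ⁻¹ᵁ U).ι ≫ f) := by
      rw [← morphismRestrict_ι]
      infer_instance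
    have h1 : ((f ⁻¹ᵁ U).ι ≫ f).QuasiFiniteAt (⟨ξ, hξU⟩ : (f ⁻¹ᵁ U : X.Opens)) :=
      Scheme.Hom.quasiFiniteAt _ _
    exact Scheme.Hom.quasiFiniteAt_comp_iff_of_isOpenImmersion.mp h1
  obtain ⟨V, hyV, hfin⟩ := exists_isFinite_morphismRestrict_of_quasiFiniteAt f y hqf
  refine ⟨V, hyV, ?_⟩
  apply isIso_of_app_bijective
  intro W
  rw [← ConcreteCategory.isIso_iff_bijective, morphismRestrict_app]
  have h1 : IsIso (f.app (V.ι ''ᵁ W)) := (ConcreteCategory.isIso_iff_bijective _).2 (hO _)
  have h2 : IsIso (X.presheaf.map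
      (eqToHom (image_morphismRestrict_preimage f V W)).op) := inferInstance
  exact @IsIso.comp_isIso _ _ _ _ _ _ _ h1 h2

/-- the open locus where a proper birational `f` with `O_Y = f_* O_X` is an isomorphism has a
complement of codimension at least two -/
theorem exists_open_isIso_codim_two {X Y : Scheme.{u}} [IsIntegral X] [IsIntegral Y]
    [IsLocallyNoetherian Y] (f : X ⟶ Y) [IsProper f]
    (hbir : ∃ U : Y.Opens, (U : Set Y).Nonempty ∧ IsIso (f ∣_ U))
    (hO : ∀ U : Y.Opens, Function.Bijective (f.app U)) :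
    ∃ V : Y.Opens, IsIso (f ∣_ V) ∧
      ∀ y : Y, y ∉ (V : Set Y) → 2 ≤ ringKrullDim (Y.presheaf.stalk y) := by
  let I := {W : Y.Opens // IsIso (f ∣_ W)}
  let V : Y.Opens := ⨆ W : I, W.1
  have hV : IsIso (f ∣_ V) :=
    Groth.Agent.Lib.Helper4.BirationalNormal1.isIso_morphismRestrict_iSup f
      (fun W : I => W.1) (fun W => W.2)
  refine ⟨V, hV, ?_⟩
  intro y hy
  apply Groth.Agent.Lib.Helper4.BirationalNormal1.two_le_of_not_le_one
  intro hdim
  obtain ⟨W, hyW, hW⟩ := exists_nhd_isIso_of_codim_le_one f hbir hO y hdim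
  exact hy (TopologicalSpace.Opens.mem_iSup.mpr ⟨⟨W, hW⟩, hyW⟩)

end Groth.Agent.Helper7.BirCodim
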